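import Groth.Agent.H25.QuotBlow.Present
import Groth.Agent.Lib.Ideal.EffCartier
import Groth.Prelude.Def_CurvBase

/-!
The product of the two Quot schemes is the blow-up of the degeneracy locus.
-/

set_option autoImplicit false
set_option linter.style.haveILetI false
universe u

open CategoryTheory CategoryTheory.Limits AlgebraicGeometry TensorProduct

namespace Groth.Agent.H25.QuotBlow.Main

open Lib.Ideal

variable {R : Type u} [CommRing R]

/-- The ring map of an affine open of a scheme over `Spec R`. -/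
noncomputable def homU {T : Scheme.{u}} (g : T ⟶ Spec (CommRingCat.of R)) (U : T.Opens) :
    R →+* Γ(T, U) :=
  (g.appLE ⊤ U le_top).hom.comp (Scheme.ΓSpecIso (CommRingCat.of R)).inv.hom

theorem specMap_homU {T : Scheme.{u}} (g : T ⟶ Spec (CommRingCat.of R)) (U : T.affineOpens) :
    Spec.map (CommRingCat.ofHom (homU g U.1)) = U.2.fromSpec ≫ g := by
  rw [homU, CommRingCat.ofHom_comp, Spec.map_comp,
    ← IsAffineOpen.SpecMap_appLE_fromSpec g (isAffineOpen_top _) U.2 le_top, IsAffineOpen.fromSpec_top,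
    Scheme.isoSpec_Spec_inv]
  rfl

theorem ideal_comap_ker {T : Scheme.{u}} (g : T ⟶ Spec (CommRingCat.of R)) (I : Ideal R)
    (U : T.affineOpens) :
    ((Spec.map (CommRingCat.ofHom (Ideal.Quotient.mk I))).ker.comap g).ideal U = I.map (homU g U.1) := by
  let e := (Scheme.ΓSpecIso (CommRingCat.of R)).commRingCatIsoToRingEquiv
  let f := Spec.map (CommRingCat.ofHom (Ideal.Quotient.mk I))
  have h0 : RingHom.ker f.appTop.hom = I.comap e := by
    ext r
    rw [RingHom.mem_ker, Ideal.mem_comap, ← Ideal.Quotient.eq_zero_iff_mem]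
    have h2' := congr($(Scheme.ΓSpecIso_naturality (CommRingCat.ofHom (Ideal.Quotient.mk I))) r)
    have h2 : (Scheme.ΓSpecIso (CommRingCat.of (R ⧸ I))).hom.hom (f.appTop.hom r) =
        Ideal.Quotient.mk I (e r) := h2'
    constructor
    · intro h
      rw [h, map_zero] at h2
      exact h2.symm
    · intro h
      apply (Scheme.ΓSpecIso (CommRingCat.of (R ⧸ I))).commRingCatIsoToRingEquiv.injective
      rw [map_zero]
      exact h2.trans h
  have h1 : f.ker.ideal ⟨⊤, isAffineOpen_top _⟩ =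
      I.map (Scheme.ΓSpecIso (CommRingCat.of R)).inv.hom := by
    rw [Scheme.ker_of_isAffine, ← show Ideal.comap (e : _ →+* R) I =
      I.map (Scheme.ΓSpecIso (CommRingCat.of R)).inv.hom from (Ideal.map_symm e).symm]
    exact (Scheme.IdealSheafData.equivOfIsAffine.right_inv _).trans h0
  rw [Comap.ideal_comap g _ ⟨⊤, isAffineOpen_top _⟩ U le_top, h1, Ideal.map_map]
  rfl

variable {m δ d : ℕ} (hd : δ ≤ d) {σ : (Fin m → R) →ₗ[R] (Fin (m + δ) → R)}
  {Bp Bm : Over (Spec (CommRingCat.of R))}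
  (ep : ∀ A : CommAlgCat.{u} R, (Over.mk (Spec.map (CommRingCat.ofHom (algebraMap R A))) ⟶ Bp) ≃
    (Module.Grassmannian.functor (R := R) (M := Present.Mod σ) d).obj A)
  (em : ∀ A : CommAlgCat.{u} R, (Over.mk (Spec.map (CommRingCat.ofHom (algebraMap R A))) ⟶ Bm) ≃
    (Module.Grassmannian.functor (R := R) (M := Present.DMod σ) (d - δ)).obj A)

/-- The structure map of the product. -/
noncomputable abbrev π (Bp Bm : Over (Spec (CommRingCat.of R))) :
    pullback Bp.hom Bm.hom ⟶ Spec (CommRingCat.of R) :=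
  pullback.fst Bp.hom Bm.hom ≫ Bp.hom

include hd ep em in
theorem isLocPrincipal :
    Curv2.IsLocPrincipal
      ((Spec.map (CommRingCat.ofHom (Ideal.Quotient.mk (Fitt.ideal R (Present.Mod σ) d)))).ker.comap
        (π Bp Bm)) := by
  intro y _
  obtain ⟨U, hU, hyU, -⟩ := exists_isAffineOpen_mem_and_subset
    (show y ∈ (⊤ : (pullback Bp.hom Bm.hom).Opens) from trivial)
  letI := (homU (π Bp Bm) U).toAlgebra
  let A : CommAlgCat.{u} R := CommAlgCat.of R Γ(pullback Bp.hom Bm.hom, U)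
  have hA : Spec.map (CommRingCat.ofHom (algebraMap R A)) = hU.fromSpec ≫ π Bp Bm :=
    specMap_homU (π Bp Bm) ⟨U, hU⟩
  let N := ep A (Over.homMk (hU.fromSpec ≫ pullback.fst _ _) (by
    show (hU.fromSpec ≫ pullback.fst _ _) ≫ Bp.hom = _
    rw [Category.assoc]; exact hA.symm))
  let N' := em A (Over.homMk (hU.fromSpec ≫ pullback.snd _ _) (by
    show (hU.fromSpec ≫ pullback.snd _ _) ≫ Bm.hom = _
    rw [Category.assoc, ← pullback.condition]; exact hA.symm))
  obtain ⟨x, hx, c, hc, hkey⟩ := Present.exists_span_near Γ(pullback Bp.hom Bm.hom, U) hd N N'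
    (hU.primeIdealOf ⟨y, hyU⟩).asIdeal
  let V : (pullback Bp.hom Bm.hom).affineOpens := ⟨_, hU.basicOpen c⟩
  have hle : V.1 ≤ U := (pullback Bp.hom Bm.hom).basicOpen_le c
  let r := ((pullback Bp.hom Bm.hom).presheaf.map (homOfLE hle).op).hom
  refine ⟨V, (EffCartier.mem_basicOpen_iff_notMem_prime hU hyU c).2 hc, r x, ?_⟩
  rw [← Scheme.IdealSheafData.map_ideal _ (U := V) (V := ⟨U, hU⟩) hle, ideal_comap_ker]
  refine le_antisymm ?_ ((Ideal.span_singleton_le_iff_mem _).2 (Ideal.mem_map_of_mem _ hx))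
  rw [Ideal.map_le_iff_le_comap]
  intro z hz
  have h1 := Ideal.mem_map_of_mem r (hkey z hz)
  rw [map_mul, Ideal.map_span, Set.image_singleton] at h1
  have hloc := hU.isLocalization_basicOpen c
  have hu : IsUnit (r c) := IsLocalization.Away.algebraMap_isUnit
    (S := Γ(pullback Bp.hom Bm.hom, (pullback Bp.hom Bm.hom).basicOpen c)) c
  rw [Ideal.mem_comap]
  exact (Ideal.unit_mul_mem_iff_mem _ hu).1 h1

include hd ep em in
/-- Over a good affine, there is exactly one lift. -/
theorem existsUnique_affine (hσ : Function.Injective σ) (A : Type u) [CommRing A] [Algebra R A]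
    (h0 : ∀ j < d, (Fitt.ideal R (Present.Mod σ) j).map (algebraMap R A) = ⊥) {β : A}
    (hβ : β ∈ nonZeroDivisors A)
    (hI : (Fitt.ideal R (Present.Mod σ) d).map (algebraMap R A) = Ideal.span {β}) :
    ∃! h : Spec (CommRingCat.of A) ⟶ pullback Bp.hom Bm.hom,
      h ≫ π Bp Bm = Spec.map (CommRingCat.ofHom (algebraMap R A)) := by
  obtain ⟨⟨u₁⟩, ⟨u₂⟩⟩ := Present.nonempty_unique A hd hσ h0 hβ hI
  let A' : CommAlgCat.{u} R := CommAlgCat.of R A
  let g₁ := (ep A').symm u₁.default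
  let g₂ := (em A').symm u₂.default
  have h1 : g₁.left ≫ Bp.hom = Spec.map (CommRingCat.ofHom (algebraMap R A)) := Over.w g₁
  have h2 : g₂.left ≫ Bm.hom = Spec.map (CommRingCat.ofHom (algebraMap R A)) := Over.w g₂
  refine ⟨pullback.lift g₁.left g₂.left (h1.trans h2.symm), ?_, fun h hh => ?_⟩
  · simp only [π, pullback.lift_fst_assoc]; exact h1
  · have e1 : (Over.homMk (U := Over.mk (Spec.map (CommRingCat.ofHom (algebraMap R A')))) (V := Bp)
        (h ≫ pullback.fst _ _) (by rw [Category.assoc]; exact hh)) = g₁ :=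
      (ep A').injective (((u₁.uniq _)).trans (u₁.uniq _).symm)
    have e2 : (Over.homMk (U := Over.mk (Spec.map (CommRingCat.ofHom (algebraMap R A')))) (V := Bm)
        (h ≫ pullback.snd _ _) (by rw [Category.assoc, ← pullback.condition]; exact hh)) = g₂ :=
      (em A').injective (((u₂.uniq _)).trans (u₂.uniq _).symm)
    apply pullback.hom_ext
    · rw [pullback.lift_fst]; exact congrArg CommaMorphism.left e1
    · rw [pullback.lift_snd]; exact congrArg CommaMorphism.left e2

variable (σ d) in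
/-- A morphism to the base with `Fit_j = 0` for `j < d` and `Fit_d` effective Cartier. -/
structure Good {T : Scheme.{u}} (g : T ⟶ Spec (CommRingCat.of R)) : Prop where
  lt : ∀ U : T.affineOpens, ∀ j < d, (Fitt.ideal R (Present.Mod σ) j).map (homU g U.1) = ⊥
  cartier : BlowUp.IsEffCartierIdeal
    ((Spec.map (CommRingCat.ofHom (Ideal.Quotient.mk (Fitt.ideal R (Present.Mod σ) d)))).ker.comap g)

theorem Good.exists_nhd {T : Scheme.{u}} {g : T ⟶ Spec (CommRingCat.of R)} (hg : Good d σ g) (x : T) :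
    ∃ U : T.affineOpens, x ∈ U.1 ∧ ∃ β : Γ(T, U.1), β ∈ nonZeroDivisors Γ(T, U.1) ∧
      (Fitt.ideal R (Present.Mod σ) d).map (homU g U.1) = Ideal.span {β} := by
  obtain ⟨U, hxU, β, hβ, he⟩ := hg.cartier x
  exact ⟨U, hxU, β, hβ, (ideal_comap_ker g _ U).symm.trans he⟩

include hd ep em in
theorem existsUnique_chart (hσ : Function.Injective σ) {T : Scheme.{u}}
    {g : T ⟶ Spec (CommRingCat.of R)} (hg : Good d σ g) (U : T.affineOpens) {β : Γ(T, U.1)}
    (hβ : β ∈ nonZeroDivisors Γ(T, U.1))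
    (he : (Fitt.ideal R (Present.Mod σ) d).map (homU g U.1) = Ideal.span {β}) :
    ∃! h : Spec Γ(T, U.1) ⟶ pullback Bp.hom Bm.hom, h ≫ π Bp Bm = U.2.fromSpec ≫ g := by
  letI := (homU g U.1).toAlgebra
  rw [← specMap_homU g U]
  exact existsUnique_affine hd ep em hσ Γ(T, U.1) (hg.lt U) hβ he

include hd ep em in
/-- Lifts are unique. -/
theorem hom_unique (hσ : Function.Injective σ) {T : Scheme.{u}} {g : T ⟶ Spec (CommRingCat.of R)}
    (hg : Good d σ g) {h h' : T ⟶ pullback Bp.hom Bm.hom} (hh : h ≫ π Bp Bm = g)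
    (hh' : h' ≫ π Bp Bm = g) : h = h' := by
  choose U hxU β hβ he using hg.exists_nhd
  have hcov : TopologicalSpace.IsOpenCover (fun x : T => (U x).1) :=
    eq_top_iff.2 fun x _ => TopologicalSpace.Opens.mem_iSup.2 ⟨x, hxU x⟩
  refine Scheme.Cover.hom_ext (T.openCoverOfIsOpenCover _ hcov) _ _ fun x => ?_
  obtain ⟨k, -, hk⟩ := existsUnique_chart hd ep em hσ hg (U x) (hβ x) (he x)
  have e : (U x).2.fromSpec ≫ h = (U x).2.fromSpec ≫ h' :=
    (hk _ ((Category.assoc _ _ _).trans (congrArg _ hh))).trans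
      (hk _ ((Category.assoc _ _ _).trans (congrArg _ hh'))).symm
  show (U x).1.ι ≫ h = (U x).1.ι ≫ h'
  rw [← (U x).2.isoSpec_inv_ι, Category.assoc, Category.assoc] at e
  exact (cancel_epi (U x).2.isoSpec.inv).1 e

theorem Good.comp {T T' : Scheme.{u}} (j : T' ⟶ T) [IsOpenImmersion j]
    {g : T ⟶ Spec (CommRingCat.of R)} (hg : Good d σ g) : Good d σ (j ≫ g) := by
  refine ⟨fun U k hk => ?_, ?_⟩
  · let V : T.affineOpens := ⟨j ''ᵁ U.1, U.2.image_of_isOpenImmersion j⟩
    have e : U.1 ≤ j ⁻¹ᵁ V.1 := (Scheme.Hom.preimage_image_eq j U.1).ge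
    have : homU (j ≫ g) U.1 = (j.appLE V.1 U.1 e).hom.comp (homU g V.1) := by
      have h2 : Spec.map (CommRingCat.ofHom (homU (j ≫ g) U.1)) =
          Spec.map (CommRingCat.ofHom ((j.appLE V.1 U.1 e).hom.comp (homU g V.1))) := by
        rw [specMap_homU, CommRingCat.ofHom_comp, Spec.map_comp, specMap_homU]
        exact ((IsAffineOpen.SpecMap_appLE_fromSpec j V.2 U.2 e).symm =≫ g).trans (Category.assoc _ _ _) |>
          (fun h => (Category.assoc _ _ _).symm.trans h)
      exact congrArg CommRingCat.Hom.hom (Spec.map_injective h2)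
    rw [this, ← Ideal.map_map, hg.lt V k hk, Ideal.map_bot]
  · rw [Scheme.IdealSheafData.comap_comp]
    exact EffCartier.isEffCartier_comap_of_flat j hg.cartier

include hd ep em in
/-- Lifts exist. -/
theorem exists_hom (hσ : Function.Injective σ) {T : Scheme.{u}} {g : T ⟶ Spec (CommRingCat.of R)}
    (hg : Good d σ g) : ∃ h : T ⟶ pullback Bp.hom Bm.hom, h ≫ π Bp Bm = g := by
  choose U hxU β hβ he using hg.exists_nhd
  have hcov : TopologicalSpace.IsOpenCover (fun x : T => (U x).1) :=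
    eq_top_iff.2 fun x _ => TopologicalSpace.Opens.mem_iSup.2 ⟨x, hxU x⟩
  let 𝒰 := T.openCoverOfIsOpenCover _ hcov
  choose k hk hk' using fun x => existsUnique_chart hd ep em hσ hg (U x) (hβ x) (he x)
  let f : ∀ x, 𝒰.X x ⟶ pullback Bp.hom Bm.hom := fun x => (U x).2.isoSpec.hom ≫ k x
  have hf : ∀ x, f x ≫ π Bp Bm = 𝒰.f x ≫ g := fun x => by
    show ((U x).2.isoSpec.hom ≫ k x) ≫ π Bp Bm = (U x).1.ι ≫ g
    rw [Category.assoc, hk x, ← (U x).2.isoSpec_inv_ι, Category.assoc, Iso.hom_inv_id_assoc]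
  refine ⟨Scheme.Cover.glueMorphisms 𝒰 f fun x y => ?_, ?_⟩
  · haveI : IsOpenImmersion (𝒰.f x) := inferInstance
    refine hom_unique hd ep em hσ (Good.comp (pullback.fst (𝒰.f x) (𝒰.f y) ≫ 𝒰.f x) hg) ?_ ?_
    · rw [Category.assoc, hf, Category.assoc]
    · rw [Category.assoc, hf, Category.assoc, pullback.condition_assoc]
  · refine Scheme.Cover.hom_ext 𝒰 _ _ fun x => ?_
    rw [Scheme.Cover.ι_glueMorphisms_assoc, hf]

include hd ep em in
/-- **The blow-up of the degeneracy locus.** -/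
theorem isBlowUp (hσ : Function.Injective σ)
    (c : pullback Bp.hom Bm.hom ⟶
      Spec (CommRingCat.of (R ⧸ ⨆ j < d, Fitt.ideal R (Present.Mod σ) j)))
    (hc : c ≫ Spec.map (CommRingCat.ofHom (Ideal.Quotient.mk (⨆ j < d, Fitt.ideal R (Present.Mod σ) j))) =
      π Bp Bm)
    (hcart : BlowUp.IsEffCartierIdeal
      ((Spec.map (CommRingCat.ofHom (Ideal.Quotient.mk (Fitt.ideal R (Present.Mod σ) d)))).ker.comap
        (π Bp Bm))) :
    BlowUp.IsBlowUp c
      (Spec.map (CommRingCat.ofHom (Ideal.Quotient.mk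
        ((Fitt.ideal R (Present.Mod σ) d).map
          (Ideal.Quotient.mk (⨆ j < d, Fitt.ideal R (Present.Mod σ) j)))))).ker := by
  set J := ⨆ j < d, Fitt.ideal R (Present.Mod σ) j
  let ι := Spec.map (CommRingCat.ofHom (Ideal.Quotient.mk J))
  haveI : IsClosedImmersion ι := IsClosedImmersion.spec_of_surjective _ Ideal.Quotient.mk_surjective
  set 𝓘 := (Spec.map (CommRingCat.ofHom (Ideal.Quotient.mk
        ((Fitt.ideal R (Present.Mod σ) d).map (Ideal.Quotient.mk J))))).ker
  have hhom : ∀ {T : Scheme.{u}} (g : T ⟶ Spec (CommRingCat.of (R ⧸ J))) (U : T.affineOpens),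
      homU (g ≫ ι) U.1 = (homU g U.1).comp (Ideal.Quotient.mk J) := fun {T} g U => by
    have : Spec.map (CommRingCat.ofHom (homU (g ≫ ι) U.1)) =
        Spec.map (CommRingCat.ofHom ((homU g U.1).comp (Ideal.Quotient.mk J))) := by
      rw [specMap_homU, CommRingCat.ofHom_comp, Spec.map_comp, specMap_homU, Category.assoc]
    exact congrArg CommRingCat.Hom.hom (Spec.map_injective this)
  have hideal : ∀ {T : Scheme.{u}} (g : T ⟶ Spec (CommRingCat.of (R ⧸ J))),
      𝓘.comap g = (Spec.map (CommRingCat.ofHom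
        (Ideal.Quotient.mk (Fitt.ideal R (Present.Mod σ) d)))).ker.comap (g ≫ ι) := fun {T} g => by
    refine Scheme.IdealSheafData.ext (funext fun U => ?_)
    rw [ideal_comap_ker, ideal_comap_ker, hhom, Ideal.map_map]
  refine ⟨?_, fun T g hg => ?_⟩
  · rw [hideal, hc]; exact hcart
  · have hgood : Good d σ (g ≫ ι) := ⟨fun U j hj => by
      rw [hhom, ← Ideal.map_map]
      have : (Fitt.ideal R (Present.Mod σ) j).map (Ideal.Quotient.mk J) = ⊥ := by
        rw [Ideal.map_eq_bot_iff_le_ker, Ideal.mk_ker]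
        exact le_iSup₂ (f := fun j (_ : j < d) => Fitt.ideal R (Present.Mod σ) j) j hj
      rw [this, Ideal.map_bot], (hideal g) ▸ hg⟩
    obtain ⟨h, hh⟩ := exists_hom hd ep em hσ hgood
    refine ⟨h, (cancel_mono ι).1 (by rw [Category.assoc, hc, hh]), fun h' hh' => ?_⟩
    exact hom_unique hd ep em hσ hgood (by rw [← hc, ← Category.assoc, hh']) hh

end Groth.Agent.H25.QuotBlow.Main
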