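import Groth.Agent.H25.Fitting
import Mathlib.RingTheory.LocalRing.Module
import Mathlib.RingTheory.Ideal.Quotient.Basic

/-!
A Fitting ideal squeezed between two free quotients is principal.
-/

set_option autoImplicit false
set_option linter.style.haveILetI false
universe u v

namespace Groth.Agent.H25.QuotBlow.Minors

open Groth.Agent.H25.Fitting

variable {A : Type u} [CommRing A]

/-- The `p`-minors of at most `p` vectors supported on a set of `p` coordinates form a principal
ideal. -/
theorem exists_Mn_eq_span {n p : ℕ} (c : Fin p → Fin n → A) (s : Finset (Fin n)) (hs : s.card = p)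
    (h0 : ∀ b i, i ∉ s → c b i = 0) : ∃ D : A, Mn (Set.range c) p = Ideal.span {D} := by
  classical
  let ε : Fin p → Fin n := fun a => (s.equivFinOfCardEq hs).symm a
  refine ⟨(Matrix.of fun a b => c b (ε a)).det, le_antisymm (Ideal.span_le.2 ?_) ?_⟩
  · rintro _ ⟨z, e, hz, rfl⟩
    choose β hβ using hz
    obtain rfl : z = fun b => c (β b) := funext fun b => (hβ b).symm
    by_cases he : ∀ a, e a ∈ s
    · let γ : Fin p → Fin p := fun a => s.equivFinOfCardEq hs ⟨e a, he a⟩
      have hγ : ∀ a, e a = ε (γ a) := fun a => by simp [ε, γ]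
      rw [SetLike.mem_coe, Ideal.mem_span_singleton]
      by_cases hbij : Function.Injective β ∧ Function.Injective γ
      · let σ := Equiv.ofBijective β (Finite.injective_iff_bijective.1 hbij.1)
        let τ := Equiv.ofBijective γ (Finite.injective_iff_bijective.1 hbij.2)
        have : (Matrix.of fun a b => c (β b) (e a)) =
            ((Matrix.of fun a b => c b (ε a)).submatrix τ id).submatrix id σ := by
          ext a b; simp [σ, τ, hγ, Matrix.submatrix]
        rw [this, Matrix.det_permute', Matrix.det_permute]
        exact Dvd.dvd.mul_left (Dvd.intro_left _ rfl) _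
      · suffices (Matrix.of fun a b => c (β b) (e a)).det = 0 by rw [this]; exact dvd_zero _
        rcases not_and_or.1 hbij with h | h
        · obtain ⟨b, b', hb, hne⟩ := Function.not_injective_iff.1 h
          exact Matrix.det_zero_of_column_eq hne fun a => by simp [hb]
        · obtain ⟨a, a', ha, hne⟩ := Function.not_injective_iff.1 h
          exact Matrix.det_zero_of_row_eq hne (funext fun b => by simp [hγ, ha])
    · push Not at he
      obtain ⟨a, ha⟩ := he
      rw [SetLike.mem_coe, Matrix.det_eq_zero_of_row_eq_zero (A := Matrix.of fun a b => c (β b) (e a)) a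
        fun b => by simpa using h0 (β b) _ ha]
      exact zero_mem _
  · rw [Ideal.span_singleton_le_iff_mem]
    exact det_mem_Mn c ε fun b => ⟨b, rfl⟩

variable [IsLocalRing A]

/-- The kernel of a surjection of finite free modules over a local ring has a complementary basis. -/
theorem exists_basis {F : Type v} [AddCommGroup F] [Module A F] {N d : ℕ}
    (b₀ : Module.Basis (Fin N) A F) {P : Type v} [AddCommGroup P] [Module A P] (bP : Module.Basis (Fin d) A P)
    (π : F →ₗ[A] P) (hπ : Function.Surjective π) :
    d ≤ N ∧ ∃ b : Module.Basis (Fin d ⊕ Fin (N - d)) A F,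
      (∀ i, π (b (Sum.inl i)) = bP i) ∧ ∀ j, π (b (Sum.inr j)) = 0 := by
  haveI : Module.Free A P := Module.Free.of_basis bP
  haveI : Module.Projective A P := inferInstance
  haveI : Module.Free A F := Module.Free.of_basis b₀
  haveI : Module.Finite A F := Module.Finite.of_basis b₀
  obtain ⟨s, hs⟩ := Module.projective_lifting_property π LinearMap.id hπ
  have hsπ : ∀ y, π (s y) = y := fun y => LinearMap.congr_fun hs y
  let K := LinearMap.ker π
  let e : (P × K) ≃ₗ[A] F :=
    { toLinearMap := LinearMap.coprod s K.subtype
      invFun := fun x => (π x, ⟨x - s (π x), by simp [K, hsπ]⟩)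
      left_inv := fun ⟨y, z⟩ => by
        have hz : π (z : F) = 0 := z.2
        ext <;> simp [hsπ, hz]
      right_inv := fun x => by simp }
  haveI : Module.Finite A K := Module.Finite.of_surjective
    ((LinearMap.snd A P K).comp e.symm.toLinearMap) (Prod.snd_surjective.comp e.symm.surjective)
  haveI : Module.Projective A K := Module.Projective.of_split
    ((e.toLinearMap).comp (LinearMap.inr A P K)) ((LinearMap.snd A P K).comp e.symm.toLinearMap)
    (by ext z; simp)
  haveI := Module.finitePresentation_of_projective A K
  haveI : Module.Free A K := Module.free_of_flat_of_isLocalRing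
  haveI : Module.Finite A P := Module.Finite.of_basis bP
  have hN : d + Module.finrank A K = N := by
    rw [← Fintype.card_fin d, ← Module.finrank_eq_card_basis bP, ← Module.finrank_prod,
      e.finrank_eq, Module.finrank_eq_card_basis b₀, Fintype.card_fin]
  refine ⟨by omega, ((bP.prod (Module.finBasisOfFinrankEq A K (n := N - d) (by omega))).map e), ?_, ?_⟩
  · intro i
    simp [e, hsπ]
  · intro j
    simp [e, K]

/-- **Principality**: if a presented module has a free quotient of rank `d` and the transposed
presentation a free quotient of corank `n - d`, then `Fit_d` is principal. -/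
theorem exists_ideal_eq_span {M : Type v} [AddCommGroup M] [Module A M] [Module.Finite A M]
    {n d m l : ℕ} (x : Fin n → M) (hx : Submodule.span A (Set.range x) = ⊤)
    (col : Fin m → Fin n → A) (hrel : rel (R := A) x = Submodule.span A (Set.range col))
    {P : Type v} [AddCommGroup P] [Module A P] (bP : Module.Basis (Fin d) A P)
    (π : M →ₗ[A] P) (hπ : Function.Surjective π)
    (q : (Fin m → A) →ₗ[A] (Fin l → A)) (hq : Function.Surjective q)
    (hq0 : ∀ i : Fin n, q (fun b => col b i) = 0) (hl : m = l + (n - d)) :
    ∃ D : A, Fitt.ideal A M d = Ideal.span {D} := by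
  classical
  let πF : (Fin n → A) →ₗ[A] M := Fintype.linearCombination A x
  have hπF : Function.Surjective πF := LinearMap.range_eq_top.mp (by
    rw [Fintype.range_linearCombination]; exact hx)
  -- the adapted coordinates
  haveI : Module.Free A P := Module.Free.of_basis bP
  obtain ⟨s, hs⟩ := Module.projective_lifting_property π LinearMap.id hπ
  choose lift hlift using hπF
  let bP' : Module.Basis (Fin d) A (Fin d → A) := Pi.basisFun A (Fin d)
  let π' : (Fin n → A) →ₗ[A] (Fin d → A) := bP.equivFun.toLinearMap ∘ₗ π ∘ₗ πF
  have hπ' : Function.Surjective π' := fun y =>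
    ⟨lift (s (bP.equivFun.symm y)), by
      show bP.equivFun (π (πF (lift _))) = y
      rw [hlift, ← LinearMap.comp_apply π s, hs, LinearMap.id_apply, LinearEquiv.apply_symm_apply]⟩
  obtain ⟨hdn, b, hbl, hbr⟩ := exists_basis (Pi.basisFun A (Fin n)) bP' π' hπ'
  let eι : Fin d ⊕ Fin (n - d) ≃ Fin n := finSumFinEquiv.trans (finCongr (by omega))
  let b' := b.reindex eι
  let y : Fin n → M := πF ∘ b'
  have hy : Submodule.span A (Set.range y) = ⊤ :=
    span_range_comp πF (fun z => ⟨lift z, hlift z⟩) b' b'.span_eq
  let Θ : (Fin n → A) ≃ₗ[A] (Fin n → A) := b'.equivFun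
  have hΘ : ∀ v, πF v = ∑ i, Θ v i • y i := fun v => by
    conv_lhs => rw [← b'.sum_equivFun v]
    rw [map_sum]
    simp only [map_smul]
    rfl
  have hrely : rel (R := A) y = Submodule.span A (Set.range (Θ ∘ col)) := by
    rw [Set.range_comp, ← LinearEquiv.coe_coe, Submodule.span_image, ← hrel]
    ext v
    rw [mem_rel, Submodule.mem_map_equiv, show v = Θ (Θ.symm v) from (Θ.apply_symm_apply v).symm,
      ← hΘ, LinearEquiv.symm_apply_apply]
    rfl
  -- the column span has few generators
  obtain ⟨hlm, bq, hbql, hbqr⟩ := exists_basis (Pi.basisFun A (Fin m)) (Pi.basisFun A (Fin l)) q hq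
  let T : (Fin m → A) →ₗ[A] (Fin n → A) := Fintype.linearCombination A (Θ ∘ col)
  let W : (Fin l → A) → Fin m → A := fun w b => ∑ i, (q (Pi.single b 1)) i * w i
  have hTW : ∀ w, T (W w) = 0 := fun w => by
    have h1 : ∑ b, W w b • col b = 0 := by
      funext i
      simp only [Finset.sum_apply, Pi.smul_apply, smul_eq_mul, Pi.zero_apply, W, Finset.sum_mul]
      rw [Finset.sum_comm]
      refine Finset.sum_eq_zero fun j _ => ?_
      have : q (fun b => col b i) j = ∑ b, col b i * q (Pi.single b 1) j := by
        conv_lhs => rw [pi_eq_sum_univ' (fun b => col b i), map_sum, Finset.sum_apply]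
        exact Finset.sum_congr rfl fun b _ => by rw [map_smul]; rfl
      rw [hq0 i] at this
      have h2 : ∑ b, q (Pi.single b 1) j * w j * col b i =
          (∑ b, col b i * q (Pi.single b 1) j) * w j := by
        rw [Finset.sum_mul]; exact Finset.sum_congr rfl fun b _ => by ring
      rw [h2, ← this]; simp
    show ∑ b, W w b • Θ (col b) = 0
    simp only [← map_smul, ← map_sum, h1, map_zero]
  -- a complement: `sec i` is a preimage of the unit vectors
  let sec : Fin l → Fin m → A := fun i => bq (Sum.inl i)
  let Cpl : (Fin m → A) →ₗ[A] (Fin m → A) :=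
    { toFun := fun v => v - W (fun i => ∑ b, v b * sec i b)
      map_add' := fun v v' => by
        ext b; simp [W, add_mul, Finset.sum_add_distrib, mul_add]; ring
      map_smul' := fun a v => by
        ext b; simp [W, mul_sub, Finset.mul_sum, mul_assoc, mul_left_comm] }
  let q' : (Fin m → A) →ₗ[A] (Fin l → A) :=
    { toFun := fun v i => ∑ b, v b * sec i b
      map_add' := fun v v' => by ext i; simp [add_mul, Finset.sum_add_distrib]
      map_smul' := fun a v => by ext i; simp [Finset.mul_sum, mul_assoc] }
  have hWsec : ∀ w, q' (W w) = w := fun w => by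
    funext i
    show ∑ b, (∑ j, q (Pi.single b 1) j * w j) * sec i b = w i
    simp only [Finset.sum_mul]
    rw [Finset.sum_comm]
    have hqi : ∀ j, ∑ b, sec i b * q (Pi.single b 1) j = (Pi.single i 1 : Fin l → A) j := fun j => by
      have h := hbql i
      rw [Pi.basisFun_apply] at h
      rw [← h]
      conv_rhs => rw [pi_eq_sum_univ' (bq (Sum.inl i)), map_sum, Finset.sum_apply]
      exact Finset.sum_congr rfl fun b _ => by rw [map_smul]; rfl
    rw [Finset.sum_eq_single i (fun j _ hj => ?_) (by simp)]
    · rw [show (∑ b, q (Pi.single b 1) i * w i * sec i b) = (∑ b, sec i b * q (Pi.single b 1) i) * w i by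
        rw [Finset.sum_mul]; exact Finset.sum_congr rfl fun b _ => by ring, hqi]
      simp
    · rw [show (∑ b, q (Pi.single b 1) j * w j * sec i b) = (∑ b, sec i b * q (Pi.single b 1) j) * w j by
        rw [Finset.sum_mul]; exact Finset.sum_congr rfl fun b _ => by ring, hqi]
      simp [hj]
  have hq'surj : Function.Surjective q' := fun w => ⟨W w, hWsec w⟩
  obtain ⟨-, bc, hbcl, hbcr⟩ := exists_basis (Pi.basisFun A (Fin m)) (Pi.basisFun A (Fin l)) q' hq'surj
  let gen : Fin (n - d) → Fin n → A := fun j => T (bc (Sum.inr (Fin.cast (by omega) j)))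
  have hspan : Submodule.span A (Set.range (Θ ∘ col)) = Submodule.span A (Set.range gen) := by
    rw [← Fintype.range_linearCombination A (Θ ∘ col)]
    refine le_antisymm ?_ (Submodule.span_le.2 ?_)
    · rintro _ ⟨v, rfl⟩
      have h1 : q' (Cpl v) = 0 := by
        show q' (v - W (q' v)) = 0
        rw [map_sub, hWsec, sub_self]
      have h2 : T v = T (Cpl v) := by
        show T v = T (v - W (q' v))
        rw [map_sub, hTW, sub_zero]
      show T v ∈ _
      rw [h2, ← bc.sum_repr (Cpl v), map_sum]
      refine Submodule.sum_mem _ fun i _ => ?_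
      rw [map_smul]
      rcases i with i | j
      · have hc : bc.repr (Cpl v) (Sum.inl i) = 0 := by
          have h3 := h1
          rw [← bc.sum_repr (Cpl v), map_sum, Fintype.sum_sum_type] at h3
          simp only [map_smul, hbcl, hbcr, smul_zero, Finset.sum_const_zero, add_zero] at h3
          have := congrFun h3 i
          simpa [Pi.single_apply] using this
        rw [hc, zero_smul]
        exact zero_mem _
      · exact Submodule.smul_mem _ _ (Submodule.subset_span ⟨Fin.cast (by omega) j, by simp [gen]⟩)
    · rintro _ ⟨j, rfl⟩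
      exact ⟨_, rfl⟩
  -- the coordinates in the free quotient vanish
  have h0 : ∀ j (i : Fin n), i ∈ (Finset.univ.image fun a : Fin d => eι (Sum.inl a)) → gen j i = 0 := by
    intro j i hi
    obtain ⟨a, -, rfl⟩ := Finset.mem_image.1 hi
    have hmem : gen j ∈ rel (R := A) y := hrely ▸ hspan ▸ Submodule.subset_span ⟨j, rfl⟩
    have h1 : π' (Θ.symm (gen j)) = 0 := by
      show bP.equivFun (π (πF (Θ.symm (gen j)))) = 0
      rw [hΘ, LinearEquiv.apply_symm_apply, mem_rel.1 hmem, map_zero, map_zero]
    have h2 : π' (Θ.symm (gen j)) = fun a => gen j (eι (Sum.inl a)) := by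
      rw [b'.equivFun_symm_apply, map_sum, ← eι.sum_comp, Fintype.sum_sum_type]
      funext a'
      simp only [map_smul, b', Module.Basis.reindex_apply, Equiv.symm_apply_apply, hbl, hbr, smul_zero,
        Finset.sum_const_zero, add_zero, Finset.sum_apply, Pi.smul_apply, bP', Pi.basisFun_apply,
        Pi.single_apply, smul_eq_mul, mul_ite, mul_one, mul_zero, Finset.sum_ite_eq, Finset.mem_univ, if_true]
    exact congrFun (h2.symm.trans h1) a
  have hcard : (Finset.univ.image fun a : Fin d => eι (Sum.inl a))ᶜ.card = n - d := by
    rw [Finset.card_compl, Finset.card_image_of_injective _ (f := fun a : Fin d => eι (Sum.inl a))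
      fun a a' h => Sum.inl_injective (eι.injective h)]
    simp
  obtain ⟨D, hD⟩ := exists_Mn_eq_span gen _ hcard fun j i hi =>
    h0 j i (by simpa only [Finset.mem_compl, not_not] using hi)
  exact ⟨D, by rw [ideal_eq_of_rel y hy _ (hrely.trans hspan), hD]⟩

end Groth.Agent.H25.QuotBlow.Minors
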