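import Groth.Agent.H25.QuotBlow.Quot
import Groth.Agent.H25.QuotBlow.Minors
import Groth.Agent.S14347
import Mathlib.RingTheory.Localization.Ideal

/-!
The Fitting ideals of the two cokernels of a two-term presentation, over an algebra.
-/

set_option autoImplicit false
set_option linter.style.haveILetI false
universe u

open TensorProduct

namespace Groth.Agent.H25.QuotBlow.Present

open Groth.Agent.H25.Fitting

variable {R : Type u} [CommRing R] {m δ : ℕ} (σ : (Fin m → R) →ₗ[R] (Fin (m + δ) → R))

/-- The cokernel. -/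
abbrev Mod := (Fin (m + δ) → R) ⧸ LinearMap.range σ

/-- The cokernel of the dual. -/
abbrev DMod := Module.Dual R (Fin m → R) ⧸ LinearMap.range σ.dualMap

/-- The columns. -/
def col (b : Fin m) : Fin (m + δ) → R := σ (Pi.single b 1)

theorem rel_mk_of_eq {R : Type u} [CommRing R] {n : ℕ} {F : Type u} [AddCommGroup F] [Module R F]
    (b : Module.Basis (Fin n) R F) {κ : Type} [Fintype κ] (g : κ → F) {P : Submodule R F}
    (hP : P = Submodule.span R (Set.range g)) :
    ∃ x : Fin n → F ⧸ P, Submodule.span R (Set.range x) = ⊤ ∧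
      rel (R := R) x = Submodule.span R (Set.range fun k i => b.repr (g k) i) := by
  subst hP
  exact ⟨_, S14347.rel_mk b g⟩

theorem exists_gens : ∃ x : Fin (m + δ) → Mod σ, Submodule.span R (Set.range x) = ⊤ ∧
    rel (R := R) x = Submodule.span R (Set.range (col σ)) := by
  have hr : LinearMap.range σ = Submodule.span R (Set.range (col σ)) := by
    rw [show col σ = σ ∘ (Pi.basisFun R (Fin m)) from funext fun a => by simp [col], Set.range_comp,
      Submodule.span_image, Module.Basis.span_eq, Submodule.map_top]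
  obtain ⟨x, h1, h2⟩ := rel_mk_of_eq (Pi.basisFun R (Fin (m + δ))) (col σ) hr
  exact ⟨x, h1, h2.trans (by simp)⟩

theorem exists_gens_dual : ∃ x : Fin m → DMod σ, Submodule.span R (Set.range x) = ⊤ ∧
    rel (R := R) x = Submodule.span R (Set.range fun i b => col σ b i) := by
  classical
  let g : Fin (m + δ) → Module.Dual R (Fin m → R) := fun i =>
    σ.dualMap ((Pi.basisFun R (Fin (m + δ))).dualBasis i)
  let bd : Module.Basis (Fin m) R (Module.Dual R (Fin m → R)) := (Pi.basisFun R (Fin m)).dualBasis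
  have hr : LinearMap.range σ.dualMap = Submodule.span R (Set.range g) := by
    rw [show g = σ.dualMap ∘ (Pi.basisFun R (Fin (m + δ))).dualBasis from rfl, Set.range_comp,
      Submodule.span_image, Module.Basis.span_eq, Submodule.map_top]
  obtain ⟨x, h1, h2⟩ := rel_mk_of_eq bd g hr
  refine ⟨x, h1, h2.trans ?_⟩
  congr 2
  funext i b
  simp [g, bd, col, Module.Basis.dualBasis_repr]

theorem ideal_fg (d : ℕ) : (Fitt.ideal R (Mod σ) d).FG := by
  obtain ⟨x, hx, hrel⟩ := exists_gens σ
  rw [ideal_eq_of_rel x hx _ hrel d]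
  exact Mn_fg (Set.finite_range _) _

variable (A : Type u) [CommRing A] [Algebra R A]

theorem baseChange_gens {n : ℕ} {N : Type u} [AddCommGroup N] [Module R N] {κ : Type}
    (x : Fin n → N) (hx : Submodule.span R (Set.range x) = ⊤) (c : κ → Fin n → R)
    (hrel : rel (R := R) x = Submodule.span R (Set.range c)) :
    Submodule.span A (Set.range fun i => (1 : A) ⊗ₜ[R] x i) = ⊤ ∧
      rel (R := A) (fun i => (1 : A) ⊗ₜ[R] x i) =
        Submodule.span A (Set.range fun k => algebraMap R A ∘ c k) := by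
  refine ⟨span_range_baseChange A x hx, le_antisymm ?_ ?_⟩
  · rw [rel_baseChange A x hx, Submodule.span_le]
    rintro _ ⟨v, hv, rfl⟩
    rw [hrel] at hv
    induction hv using Submodule.span_induction with
    | mem v hv => obtain ⟨k, rfl⟩ := hv; exact Submodule.subset_span ⟨k, rfl⟩
    | zero =>
      show algebraMap R A ∘ (0 : Fin n → R) ∈ Submodule.span A _
      rw [show algebraMap R A ∘ (0 : Fin n → R) = 0 from funext fun i => map_zero _]; exact zero_mem _
    | add v w _ _ ihv ihw =>
      show algebraMap R A ∘ (v + w) ∈ Submodule.span A _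
      rw [show algebraMap R A ∘ (v + w) = algebraMap R A ∘ v + algebraMap R A ∘ w from
        funext fun i => map_add _ _ _]
      exact add_mem ihv ihw
    | smul a v _ ih =>
      show algebraMap R A ∘ (a • v) ∈ Submodule.span A _
      rw [show algebraMap R A ∘ (a • v) = algebraMap R A a • (algebraMap R A ∘ v) from
        funext fun i => map_mul _ _ _]
      exact Submodule.smul_mem _ _ ih
  · rw [rel_baseChange A x hx, Submodule.span_le]
    rintro _ ⟨k, rfl⟩
    exact Submodule.subset_span ⟨c k, hrel.ge (Submodule.subset_span ⟨k, rfl⟩), rfl⟩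

variable {σ} {d : ℕ} (hd : δ ≤ d)

include hd in
/-- Over a local algebra with both quotients, `Fit_d` is principal. -/
theorem exists_span_of_local [IsLocalRing A] (N : Module.Grassmannian A (A ⊗[R] Mod σ) d)
    (N' : Module.Grassmannian A (A ⊗[R] DMod σ) (d - δ)) :
    ∃ D : A, (Fitt.ideal R (Mod σ) d).map (algebraMap R A) = Ideal.span {D} := by
  classical
  obtain ⟨x, hx, hrel⟩ := exists_gens σ
  obtain ⟨x', hx', hrel'⟩ := exists_gens_dual σ
  haveI : Module.Finite R (Mod σ) := inferInstance
  obtain ⟨hxA, hrelA⟩ := baseChange_gens A x hx _ hrel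
  obtain ⟨hx'A, hrel'A⟩ := baseChange_gens A x' hx' _ hrel'
  have hfree : ∀ {X : Type u} [AddCommGroup X] [Module A X] {k : ℕ} (W : Module.Grassmannian A X k),
      Nonempty (Module.Basis (Fin k) A (X ⧸ W.toSubmodule)) := fun {X} _ _ {k} W => by
    haveI := Module.finitePresentation_of_projective A (X ⧸ W.toSubmodule)
    haveI : Module.Free A (X ⧸ W.toSubmodule) := Module.free_of_flat_of_isLocalRing
    refine ⟨Module.finBasisOfFinrankEq _ _ ?_⟩
    have := W.rankAtStalk_eq ⟨IsLocalRing.maximalIdeal A, inferInstance⟩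
    rwa [Module.rankAtStalk_eq_finrank_of_free] at this
  obtain ⟨bP⟩ := hfree N
  obtain ⟨bQ⟩ := hfree N'
  have hdn : d ≤ m + δ := by
    obtain ⟨h, -⟩ := Minors.exists_basis (Pi.basisFun A (Fin (m + δ))) bP
      (N.toSubmodule.mkQ ∘ₗ Fintype.linearCombination A (fun i => (1 : A) ⊗ₜ[R] x i))
      (N.toSubmodule.mkQ_surjective.comp (LinearMap.range_eq_top.mp (by
        rw [Fintype.range_linearCombination]; exact hxA)))
    exact h
  let q : (Fin m → A) →ₗ[A] (Fin (d - δ) → A) :=
    bQ.equivFun.toLinearMap ∘ₗ N'.toSubmodule.mkQ ∘ₗ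
      Fintype.linearCombination A (fun b => (1 : A) ⊗ₜ[R] x' b)
  rw [← ideal_baseChange]
  refine Minors.exists_ideal_eq_span _ hxA _ hrelA bP N.toSubmodule.mkQ N.toSubmodule.mkQ_surjective q
    (bQ.equivFun.surjective.comp (N'.toSubmodule.mkQ_surjective.comp (LinearMap.range_eq_top.mp (by
        rw [Fintype.range_linearCombination]; exact hx'A)))) (fun i => ?_) (by omega)
  have hmem : (fun b => algebraMap R A (col σ b i)) ∈
      rel (R := A) (fun b => (1 : A) ⊗ₜ[R] x' b) := hrel'A ▸ Submodule.subset_span ⟨i, rfl⟩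
  have h0 : Fintype.linearCombination A (fun b => (1 : A) ⊗ₜ[R] x' b)
      (fun b => algebraMap R A (col σ b i)) = 0 := hmem
  show bQ.equivFun (N'.toSubmodule.mkQ (Fintype.linearCombination A _ _)) = 0
  erw [h0]
  simp

include hd in
/-- Near every prime, `Fit_d` is principal. -/
theorem exists_span_near (N : Module.Grassmannian A (A ⊗[R] Mod σ) d)
    (N' : Module.Grassmannian A (A ⊗[R] DMod σ) (d - δ)) (p : Ideal A) [p.IsPrime] :
    ∃ x ∈ (Fitt.ideal R (Mod σ) d).map (algebraMap R A), ∃ c ∉ p,
      ∀ z ∈ (Fitt.ideal R (Mod σ) d).map (algebraMap R A), c * z ∈ Ideal.span {x} := by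
  classical
  let I := (Fitt.ideal R (Mod σ) d).map (algebraMap R A)
  let L := Localization.AtPrime p
  let f : A →ₐ[R] L := IsScalarTower.toAlgHom R A L
  obtain ⟨D, hD⟩ := exists_span_of_local L hd (Module.Grassmannian.map f N) (Module.Grassmannian.map f N')
  have hIL : I.map (algebraMap A L) = Ideal.span {D} := by
    rw [Ideal.map_map, ← IsScalarTower.algebraMap_eq, hD]
  obtain ⟨⟨⟨x, hx⟩, s⟩, hxs⟩ := (IsLocalization.mem_map_algebraMap_iff p.primeCompl L).1
    (hIL.ge (Ideal.mem_span_singleton_self D))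
  simp only at hxs
  have hkey : ∀ z ∈ I, ∃ t ∉ p, t * z ∈ Ideal.span {x} := fun z hz => by
    have h1 : algebraMap A L z ∈ Ideal.span {D} := hIL.le (Ideal.mem_map_of_mem _ hz)
    have h2 : Ideal.span {D} ≤ (Ideal.span {x}).map (algebraMap A L) := by
      rw [Ideal.map_span, Set.image_singleton, ← hxs, Ideal.span_singleton_le_span_singleton]
      exact (IsUnit.mul_right_dvd (IsLocalization.map_units L s)).2 dvd_rfl
    exact (IsLocalization.algebraMap_mem_map_algebraMap_iff p.primeCompl L _ z).1 (h2 h1)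
  obtain ⟨T, hT⟩ := (ideal_fg σ d).map (algebraMap R A)
  choose! t htp ht using hkey
  have hTI : ∀ g ∈ T, g ∈ I := fun g hg => hT.le (Submodule.subset_span hg)
  refine ⟨x, hx, ∏ g ∈ T, t g, fun hm => ?_, fun z hz => ?_⟩
  · obtain ⟨g, hg, hgp⟩ := (‹p.IsPrime›.prod_mem_iff).1 hm
    exact htp g (hTI g hg) hgp
  · have hz' : z ∈ Ideal.span (T : Set A) := hT.ge hz
    refine Submodule.span_induction (p := fun z _ => (∏ g ∈ T, t g) * z ∈ Ideal.span {x})
      (fun g hg => ?_) (by simp) (fun a b _ _ ha hb => by rw [mul_add]; exact add_mem ha hb)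
      (fun r a _ ha => by rw [smul_eq_mul, mul_left_comm]; exact Ideal.mul_mem_left _ _ ha) hz'
    rw [← Finset.prod_erase_mul _ _ hg, mul_assoc]
    exact Ideal.mul_mem_left _ _ (ht g (hTI g hg))

include hd in
/-- Where `Fit_d` is generated by a nonzerodivisor and the smaller ones vanish, both quotients are
unique. -/
theorem nonempty_unique (hσ : Function.Injective σ)
    (h0 : ∀ j < d, (Fitt.ideal R (Mod σ) j).map (algebraMap R A) = ⊥) {β : A}
    (hβ : β ∈ nonZeroDivisors A)
    (hI : (Fitt.ideal R (Mod σ) d).map (algebraMap R A) = Ideal.span {β}) :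
    Nonempty (Unique (Module.Grassmannian A (A ⊗[R] Mod σ) d)) ∧
      Nonempty (Unique (Module.Grassmannian A (A ⊗[R] DMod σ) (d - δ))) := by
  haveI : Module.Finite R (DMod σ) := by
    obtain ⟨x', hx', -⟩ := exists_gens_dual σ
    exact ⟨(Set.finite_range x').toFinset, by simpa using hx'⟩
  have hshift : ∀ j, Fitt.ideal R (DMod σ) j = Fitt.ideal R (Mod σ) (δ + j) := fun j => by
    rw [← (S14347.result R m (m + δ) σ hσ).1 j, show m + δ - m + j = δ + j by omega]
  refine ⟨Quot.nonempty_unique ⟨hβ, by rw [ideal_baseChange]; exact hI, fun j hj => ?_⟩,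
    Quot.nonempty_unique ⟨hβ, ?_, fun j hj => ?_⟩⟩
  · rw [ideal_baseChange]; exact h0 j (by omega)
  · rw [ideal_baseChange, hshift, Nat.add_sub_cancel' hd]; exact hI
  · rw [ideal_baseChange, hshift]; exact h0 _ (by omega)

end Groth.Agent.H25.QuotBlow.Present
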