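import Groth.Agent.H25.FittingLoc
import Mathlib.RingTheory.Grassmannian
import Mathlib.RingTheory.Flat.TorsionFree
import Mathlib.RingTheory.OrzechProperty
import Mathlib.RingTheory.LocalProperties.Exactness

/-!
When `Fit_k = (f)` with `f` regular and `Fit_j = 0` below, there is exactly one locally free
quotient of rank `k`.
-/

set_option autoImplicit false
set_option linter.style.haveILetI false
universe u v

namespace Groth.Agent.H25.QuotBlow.Quot

open Groth.Agent.H25.Fitting

variable {A : Type u} [CommRing A] {M : Type v} [AddCommGroup M] [Module A M]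

/-- A surjection of finite projective modules of the same rank is injective. -/
theorem injective_of_surjective {P Q : Type v} [AddCommGroup P] [Module A P] [AddCommGroup Q] [Module A Q]
    [Module.Finite A P] [Module.Projective A P] [Module.Finite A Q] [Module.Projective A Q]
    (π : P →ₗ[A] Q) (hπ : Function.Surjective π)
    (h : ∀ p, Module.rankAtStalk (R := A) P p = Module.rankAtStalk (R := A) Q p) :
    Function.Injective π := by
  refine injective_of_localized_maximal π fun J hJ => ?_
  haveI := Module.finitePresentation_of_projective A P
  haveI := Module.finitePresentation_of_projective A Q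
  let L := Localization.AtPrime J
  let φ := LocalizedModule.map J.primeCompl π
  have hsurj : Function.Surjective φ := LocalizedModule.map_surjective J.primeCompl π hπ
  haveI : Module.Free L (LocalizedModule J.primeCompl P) := Module.free_of_flat_of_isLocalRing
  haveI : Module.Free L (LocalizedModule J.primeCompl Q) := Module.free_of_flat_of_isLocalRing
  have hh : Module.finrank L (LocalizedModule J.primeCompl P) =
      Module.finrank L (LocalizedModule J.primeCompl Q) := h ⟨J, hJ.isPrime⟩
  let e := LinearEquiv.ofFinrankEq (R := L) _ _ hh
  have := OrzechProperty.injective_of_surjective_endomorphism (e.symm.toLinearMap ∘ₗ φ)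
    (e.symm.surjective.comp hsurj)
  exact fun a b hab => this (congrArg e.symm hab)

variable [Module.Finite A M] {k : ℕ} {f : A}

/-- The stalk rank of `M / ker f`. -/
theorem rankAtStalk_quot (h : Principal M k f) (p : PrimeSpectrum A) :
    Module.rankAtStalk (R := A) (M ⧸ LinearMap.ker (f • (LinearMap.id : M →ₗ[A] M))) p = k := by
  obtain ⟨c, hc, g, h1, h2⟩ := h.approx p.asIdeal
  set N := LinearMap.ker (f • (LinearMap.id : M →ₗ[A] M))
  let b := Module.Basis.mk
    (linearIndependent_localized p.asIdeal.primeCompl (N.mkQ ∘ g) fun a ha i => ⟨c, hc, h2 a (by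
      rw [← Submodule.Quotient.mk_eq_zero, ← Submodule.mkQ_apply, map_sum]; simpa using ha) i⟩)
    (span_localized p.asIdeal.primeCompl (N.mkQ ∘ g) fun y => ⟨c, hc, by
      obtain ⟨y, rfl⟩ := N.mkQ_surjective y
      have := Submodule.mem_map_of_mem (f := N.mkQ) (h1 y)
      rwa [Submodule.map_sup, Submodule.mkQ_map_self, sup_bot_eq, Submodule.map_span,
        ← Set.range_comp, map_smul] at this⟩).ge
  rw [Module.rankAtStalk, Module.finrank_eq_card_basis b, Fintype.card_fin]

/-- The unique quotient. -/
theorem nonempty_unique (h : Principal M k f) : Nonempty (Unique (Module.Grassmannian A M k)) := by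
  let N₀ : Module.Grassmannian A M k :=
    { toSubmodule := LinearMap.ker (f • (LinearMap.id : M →ₗ[A] M))
      finite_quotient := inferInstance
      projective_quotient := h.projective_quot
      rankAtStalk_eq := rankAtStalk_quot h }
  refine ⟨⟨⟨N₀⟩, fun N => Module.Grassmannian.ext ?_⟩⟩
  show N.toSubmodule = N₀.toSubmodule
  have hle : N₀.toSubmodule ≤ N.toSubmodule := fun x hx => by
    rw [← Submodule.Quotient.mk_eq_zero]
    have hr : IsSMulRegular (M ⧸ N.toSubmodule) f :=
      Module.Flat.isSMulRegular_of_nonZeroDivisors h.nzd
    have h1 : f • Submodule.Quotient.mk x = (0 : M ⧸ N.toSubmodule) := by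
      rw [← Submodule.Quotient.mk_smul, show f • x = 0 from hx, Submodule.Quotient.mk_zero]
    exact hr (h1.trans (smul_zero f).symm)
  have := N₀.projective_quotient
  have := N₀.finite_quotient
  have hinj := injective_of_surjective (Submodule.factor hle) (Submodule.factor_surjective hle)
    fun p => (N₀.rankAtStalk_eq p).trans (N.rankAtStalk_eq p).symm
  refine le_antisymm (fun x hx => ?_) hle
  rw [← Submodule.Quotient.mk_eq_zero]
  apply hinj
  rw [map_zero]
  exact (Submodule.Quotient.mk_eq_zero _).2 hx

end Groth.Agent.H25.QuotBlow.Quot
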